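import Groth.Agent.Lib.RegSeqExt12.Main
import Groth.Agent.Lib.CohMop.RelExtSeq
import Groth.Agent.Lib.CohMop.TensorDerived

/-!
# Local Ext sheaves of a regular immersion vanish below the codimension
-/

set_option autoImplicit false
set_option linter.style.haveILetI false
set_option linter.unusedSectionVars false
set_option backward.isDefEq.respectTransparency false
set_option backward.isDefEq.respectTransparency.types false
set_option maxHeartbeats 800000

universe u

open CategoryTheory CategoryTheory.Limits AlgebraicGeometry Opposite TopologicalSpace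

noncomputable section

namespace Groth.Agent.ExtBelow2

open Groth.Agent Groth.Agent.CohMop KFlat KFlat.Sch Groth.Agent.RegSeqExt12
open Groth.Agent.FundIso12 (opush gm gr partIdeal SeqReg Chart)
open Groth.Agent.ThetaGrp19 (smulHom smulHom_app smulHom_naturality)

variable {X : Scheme.{u}} (f : ℕ → Γ(X, ⊤))

theorem mono_smulHom_tensor {r : ℕ} (hreg : ∀ y : X, SeqReg (germs f y) r) {G : X.Modules}
    (hG : FlatMod.IsFinLocFree G) {i : ℕ} (hi : i < r) :
    Mono (smulHom (CohB1.tensorMod (qMod f i) G) (f i)) := by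
  haveI := mono_smulHom f hreg hi
  haveI := mono_tensor_of_isFlat (isFlat_of_isFinLocFree hG) (smulHom (qMod f i) (f i))
  rw [RHom.map_eq_tensorMap_right, tensorMap_smulHom_right] at *
  have e : smulHom (CohB1.tensorMod (qMod f i) G) (f i) =
      (M2.tensorComm (qMod f i) G).hom ≫ smulHom (CohB1.tensorMod G (qMod f i)) (f i) ≫
        (M2.tensorComm (qMod f i) G).inv := by
    rw [smulHom_naturality, Iso.hom_inv_id_assoc]
  rw [e]
  haveI : Mono (smulHom (CohB1.tensorMod G (qMod f i)) (f i)) := by assumption
  exact mono_comp _ _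

variable [HasInjectiveResolutions X.Modules]

theorem mono_rightDerived_zero_ihomNat {A B : X.Modules} (q : A ⟶ B) [Epi q] (G : X.Modules) :
    haveI := fun Q : X.Modules => CohMop.additive_ihom Q
    Mono ((NatTrans.rightDerived (ihomNat q) 0).app G) := by
  haveI := fun Q : X.Modules => CohMop.additive_ihom Q
  haveI : ∀ M : X.Modules, PreservesFiniteLimits (ihom M) := fun M =>
    PreservesLimitsOfSize.preservesFiniteLimits _
  let S : ShortComplex X.Modules := ShortComplex.mk (kernel.ι q) q (kernel.condition q)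
  haveI : Epi S.g := ‹Epi q›
  obtain ⟨hl⟩ := nonempty_isLimit_ihomSeq (S := S)
    (ShortComplex.exact_of_f_is_kernel _ (kernelIsKernel q)) G
  haveI : Mono ((ihomNat q).app G) := mono_of_isLimit_fork hl
  have h := RDSeq.toRightDerivedZero_natural (ihomNat q) G
  rw [← IsIso.inv_comp_eq] at h
  rw [← h]
  infer_instance

/-- `ℰxt^j(O/(f_{<i}), G) = 0` for `j < i` and locally free `G`. -/
theorem ext_qMod_below {r : ℕ} (hreg : ∀ y : X, SeqReg (germs f y) r) {G : X.Modules}
    (hG : FlatMod.IsFinLocFree G) : ∀ i : ℕ, i ≤ r →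
    haveI := fun Q : X.Modules => CohMop.additive_ihom Q
    ∀ j, j < i → IsZero (((ihom (qMod f i)).rightDerived j).obj G)
  | 0, _ => fun j hj => absurd hj (Nat.not_lt_zero j)
  | i + 1, hi => by
    haveI := fun Q : X.Modules => CohMop.additive_ihom Q
    have ih := ext_qMod_below hreg hG i (by omega)
    haveI := RegSeqExt12.mono_smulHom f hreg (i := i) (by omega)
    let S : ShortComplex X.Modules :=
      ShortComplex.mk (smulHom (qMod f i) (f i)) (cokernel.π (smulHom (qMod f i) (f i))) (cokernel.condition _)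
    have hS : S.ShortExact :=
      { exact := ShortComplex.exact_cokernel _
        mono_f := inferInstanceAs (Mono (smulHom (qMod f i) (f i)))
        epi_g := inferInstanceAs (Epi (cokernel.π _)) }
    obtain ⟨-, ⟨t⟩⟩ := ext_qMod f hreg G i (by omega)
    haveI hm : Mono ((NatTrans.rightDerived (ihomNat S.f) i).app G) := by
      rw [show (NatTrans.rightDerived (ihomNat S.f) i).app G = smulHom _ (f i) from
        rightDerived_ihomNat_smulHom (f i) (qMod f i) G i]
      haveI := mono_smulHom_tensor f hreg hG (i := i) (by omega)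
      have e : smulHom (((ihom (qMod f i)).rightDerived i).obj G) (f i) =
          t.hom ≫ smulHom (CohB1.tensorMod (qMod f i) G) (f i) ≫ t.inv := by
        rw [smulHom_naturality, Iso.hom_inv_id_assoc]
      rw [e]
      infer_instance
    intro j hj
    rcases Nat.eq_zero_or_pos j with rfl | hj0
    · haveI : Mono ((NatTrans.rightDerived (ihomNat S.g) 0).app G) :=
        mono_rightDerived_zero_ihomNat (cokernel.π (smulHom (qMod f i) (f i))) G
      rcases Nat.eq_zero_or_pos i with rfl | hi0
      · refine (IsZero.iff_id_eq_zero _).2 ((cancel_mono ((NatTrans.rightDerived (ihomNat S.g) 0).app G)).1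
          ((cancel_mono ((NatTrans.rightDerived (ihomNat S.f) 0).app G)).1 ?_))
        rw [Category.id_comp, zero_comp, zero_comp]
        exact RDSeq.rightDerived_comp_zero (ihomNat S.g) (ihomNat S.f) (ihomNat_zero S) 0 G
      · exact IsZero.of_mono ((NatTrans.rightDerived (ihomNat S.g) 0).app G) (ih 0 hi0)
    · obtain ⟨p, rfl⟩ := Nat.exists_eq_succ_of_ne_zero (by omega : j ≠ 0)
      have he := RDSeq.exact_delta_rightDerived (ihomNat S.g) (ihomNat S.f) (ihomNat_zero S)
        (shortExact_ihom_of_injective hS) p G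
      by_cases hpi : p + 1 < i
      · exact he.isZero_of_both_zeros ((ih p (by omega)).eq_of_src _ _) ((ih (p + 1) hpi).eq_of_tgt _ _)
      · obtain rfl : i = p + 1 := by omega
        refine he.isZero_of_both_zeros ((ih p (by omega)).eq_of_src _ _) ?_
        refine (cancel_mono ((NatTrans.rightDerived (ihomNat S.f) (p + 1)).app G)).1 ?_
        rw [zero_comp]
        exact RDSeq.rightDerived_comp_zero (ihomNat S.g) (ihomNat S.f) (ihomNat_zero S) (p + 1) G

variable {Z P : Scheme.{u}} (ι : Z ⟶ P) [IsClosedImmersion ι] [HasInjectiveResolutions P.Modules]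

theorem isZero_ext_opush {r : ℕ} (hι : RegImm.IsRegularImmersionOfCodim RegImm.Kind.regular r ι) {G : P.Modules}
    (hG : FlatMod.IsFinLocFree G) {j : ℕ} (hj : j < r) :
    haveI := fun Q : P.Modules => CohMop.additive_ihom Q
    IsZero (((ihom (opush ι)).rightDerived j).obj G) := by
  haveI := fun Q : P.Modules => CohMop.additive_ihom Q
  refine isZero_of_restrict fun x => ?_
  by_cases hx : x ∈ Set.range ι.base
  · obtain ⟨x₀, rfl⟩ := hx
    obtain ⟨c, hc⟩ := FundIso12.exists_chart hι x₀
    let U := c.U
    haveI : IsAffine (U : Scheme.{u}) := c.affine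
    haveI := fun Q : (U : Scheme.{u}).Modules => CohMop.additive_ihom Q
    haveI : HasInjectiveResolutions (U : Scheme.{u}).Modules := inferInstance
    have hle : U.ι ''ᵁ (⊤ : (U : Scheme.{u}).Opens) = U := U.ι_image_top
    let θ : Γ(P, U) ≃+* Γ((U : Scheme.{u}), ⊤) :=
      (P.presheaf.mapIso (eqToIso hle).op).commRingCatIsoToRingEquiv
    let f : ℕ → Γ((U : Scheme.{u}), ⊤) := fun j => θ (c.f j)
    have hker : RingHom.ker ((ι ∣_ U).app ⊤).hom = partIdeal f r := by
      rw [partIdeal, show f '' Set.Iio r = θ '' (c.f '' Set.Iio r) from (Set.image_image _ _ _).symm,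
        ← Ideal.map_span θ, ← show RingHom.ker (ι.app U).hom = Ideal.span (c.f '' Set.Iio r) from c.ker]
      ext a
      obtain ⟨b, rfl⟩ := θ.surjective a
      rw [RingHom.mem_ker, show (θ b ∈ (RingHom.ker (ι.app U).hom).map θ) ↔ b ∈ RingHom.ker (ι.app U).hom from
        ⟨fun h => by obtain ⟨z, hz, he⟩ := (Ideal.mem_map_of_equiv θ _).1 h; exact θ.injective he ▸ hz,
          fun h => Ideal.mem_map_of_mem _ h⟩, RingHom.mem_ker]
      rw [morphismRestrict_app]
      constructor
      · intro h
        have h1 : (Z.presheaf.map _) (ι.app (U.ι ''ᵁ ⊤) (P.presheaf.map (eqToHom hle).op b)) = 0 := h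
        have h2 := (ConcreteCategory.bijective_of_isIso (Z.presheaf.map _)).1 (h1.trans (map_zero _).symm)
        rw [← ConcreteCategory.comp_apply, Scheme.Hom.naturality] at h2
        exact (ConcreteCategory.bijective_of_isIso (Z.presheaf.map _)).1 (h2.trans (map_zero _).symm)
      · intro h
        show (Z.presheaf.map _) (ι.app (U.ι ''ᵁ ⊤) (P.presheaf.map (eqToHom hle).op b)) = 0
        rw [← ConcreteCategory.comp_apply (P.presheaf.map _), Scheme.Hom.naturality, ConcreteCategory.comp_apply, h,
          map_zero, map_zero]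
    let e : (Scheme.Modules.restrictFunctor U.ι).obj (opush ι) ≅ opush (ι ∣_ U) :=
      M1.pushRestrictIso (isPullback_morphismRestrict ι U) _ ≪≫
        (Scheme.Modules.pushforward (ι ∣_ U)).mapIso (Scheme.Modules.restrictUnitIso (ι ⁻¹ᵁ U).ι)
    obtain ⟨q⟩ := nonempty_qMod_iso (ι ∣_ U) f r (isAffineOpen_top _) hker
    have hz := ext_qMod_below f (seqReg_germs f r (isAffineOpen_top _) (c.reg.map_ringEquiv θ))
      (G := (Scheme.Modules.restrictFunctor U.ι).obj G) (M2.isFinLocFree_restrict _ hG) r le_rfl j hj
    exact ⟨U, hc, (hz.of_iso ((CohMop.rdMapIso (ihomIso (e ≪≫ q.symm)) j).app _)).of_iso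
      ((restrictExtIso U (opush ι) j).app G)⟩
  · let U : P.Opens := ⟨(Set.range ι.base)ᶜ, ι.isClosedEmbedding.isClosed_range.isOpen_compl⟩
    haveI := fun Q : (U : Scheme.{u}).Modules => CohMop.additive_ihom Q
    have hz : IsZero ((Scheme.Modules.restrictFunctor U.ι).obj (opush ι)) :=
      VA11.isZero_restrict_push U.ι ι (fun a b h => a.2 ⟨b, h.symm⟩) _
    exact ⟨U, hx, (isZero_ext_of_isZero hz _ j).of_iso ((restrictExtIso U (opush ι) j).app G)⟩

end Groth.Agent.ExtBelow2
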