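import Groth.Agent.Lib.ExtBelow2.Split
import Groth.Agent.Lib.ExtBelow2.Sheaf
import Groth.Agent.Lib.ClImmProj14.Adj
import Groth.Agent.Lib.TensorNat17.Basic
import Mathlib.CategoryTheory.Abelian.Injective.Ext

/-!
# `Ext^q(i_* F, E) = 0` below the codimension of a regular immersion
-/

set_option autoImplicit false
set_option linter.style.haveILetI false
set_option linter.unusedSectionVars false
set_option backward.isDefEq.respectTransparency false
set_option backward.isDefEq.respectTransparency.types false
set_option maxHeartbeats 800000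

universe u

open CategoryTheory CategoryTheory.Limits AlgebraicGeometry Abelian

noncomputable section

namespace Groth.Agent.ExtBelow2

open Groth.Agent Groth.Agent.CohMop KFlat KFlat.Sch
open Groth.Agent.FundIso12 (opush)

variable {X Z : Scheme.{u}} (i : Z ⟶ X) [IsClosedImmersion i]

/-- The functor `M ↦ M ⊗ O` is the identity. -/
def tenRUnitIso : tenR (Coh.structureModule Z) ≅ 𝟭 Z.Modules :=
  NatIso.ofComponents (fun M => M2.tensorRUnit M) fun {M M'} g => by
    refine Eq.trans ?_ (M2.tensorRUnit_natural g)
    exact congrArg (· ≫ (M2.tensorRUnit M').hom) (RHom.map_eq_tensorMap_left g _)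

theorem subsingleton_ext_pushforward [HasExt.{u} X.Modules] {c : ℕ}
    (hi : RegImm.IsRegularImmersionOfCodim RegImm.Kind.regular c i) (E : X.Modules)
    (hE : FlatMod.IsFinLocFree E) (F : Z.Modules) (q : ℕ) (hq : q < c) :
    Subsingleton (Ext ((Scheme.Modules.pushforward i).obj F) E q) := by
  haveI := fun Q : X.Modules => CohMop.additive_ihom Q
  haveI : ModSite.HasSheafHom (O := X.sheaf) ((Scheme.Modules.pushforward i).obj (Coh.structureModule Z)) :=
    isLeftAdjoint_tenR _
  let R := ClImmProj14.upper i (Coh.structureModule Z)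
  haveI : R.Additive := ClImmProj14.upper_additive i _
  haveI : R.PreservesInjectiveObjects := ClImmProj14.upper_preservesInjective i _
    (M2.isFinLocFree_of_isInvertible (_root_.PicLoc.isInvertible_structureModule Z))
  let adj : Scheme.Modules.pushforward i ⊣ R :=
    (ClImmProj14.upperAdj i (Coh.structureModule Z)).ofNatIsoLeft
      (Functor.isoWhiskerRight tenRUnitIso _ ≪≫ Functor.leftUnitor _)
  let I := injectiveResolution E
  let L := (R.mapHomologicalComplex (ComplexShape.up ℕ)).obj I.cocomplex
  have hI : ∀ n, Injective (L.X n) := fun n => R.injective_obj_of_injective (I.injective n)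
  let K := ((CohMop.ihom (opush i)).mapHomologicalComplex (ComplexShape.up ℕ)).obj I.cocomplex
  have hK : ∀ j, j < c → K.ExactAt j := fun j hj => (HomologicalComplex.exactAt_iff_isZero_homology _ _).2
    ((isZero_ext_opush i hi hE hj).of_iso (I.isoRightDerivedObj (CohMop.ihom (opush i)) j).symm)
  haveI := ClImmProj14.faithful_push i
  haveI : (Scheme.Modules.pushforward i).PreservesMonomorphisms :=
    Functor.preservesMonomorphisms_of_adjunction (Scheme.Modules.pullbackPushforwardAdjunction i)
  haveI : (Scheme.Modules.pushforward i).PreservesEpimorphisms :=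
    Functor.preservesEpimorphisms_of_adjunction adj
  haveI : PreservesFiniteLimits (Scheme.Modules.pushforward i) := inferInstance
  haveI : PreservesFiniteColimits (Scheme.Modules.pushforward i) :=
    have := adj.leftAdjoint_preservesColimits.{0, 0}
    PreservesColimitsOfSize.preservesFiniteColimits _
  let θ : CohMop.ihom (opush i) ≅ R ⋙ Scheme.Modules.pushforward i :=
    ClImmProj14.upperPushIso i (Coh.structureModule Z)
  have hθ : ∀ n m, θ.hom.app (I.cocomplex.X n) ≫ (Scheme.Modules.pushforward i).map (L.d n m) =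
      K.d n m ≫ θ.hom.app (I.cocomplex.X m) := fun n m => (θ.hom.naturality _).symm
  have h0 : 0 < c → Mono (L.d 0 1) := by
    intro hc
    apply (Scheme.Modules.pushforward i).mono_of_mono_map
    haveI : Mono (K.d 0 1) := by
      refine Preadditive.mono_of_cancel_zero _ fun {W} g hg => ?_
      have hex := (K.exactAt_iff' 0 0 1 (by simp) (by simp)).1 (hK 0 hc)
      have : Mono (K.sc' 0 0 1).g := hex.mono_g (K.shape 0 0 (by simp))
      exact zero_of_comp_mono (K.sc' 0 0 1).g hg
    have e := hθ 0 1
    rw [← IsIso.eq_inv_comp] at e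
    rw [e]
    infer_instance
  have hex : ∀ n, n + 1 < c →
      (ShortComplex.mk (L.d n (n + 1)) (L.d (n + 1) (n + 2)) (L.d_comp_d _ _ _)).Exact := by
    intro n hn
    refine (ShortComplex.exact_map_iff_of_faithful _ (Scheme.Modules.pushforward i)).1 ?_
    refine ShortComplex.exact_of_iso ?_ ((K.exactAt_iff' n (n + 1) (n + 2) (by simp) (by simp)).1 (hK _ hn))
    exact ShortComplex.isoMk (θ.app _) (θ.app _) (θ.app _) (hθ _ _) (hθ _ _)
  refine subsingleton_of_forall_eq 0 fun x => ?_
  obtain ⟨φ, hφ, rfl⟩ := I.extMk_surjective x (q + 1) rfl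
  have hφ' : (adj.homEquiv F _) φ ≫ L.d q (q + 1) = 0 := by
    show (adj.homEquiv F _) φ ≫ R.map (I.cocomplex.d q (q + 1)) = 0
    rw [← adj.homEquiv_naturality_right, hφ, adj.homEquiv_unit, CategoryTheory.Functor.map_zero, comp_zero]
  rcases q with _ | p
  · have : Mono (L.d 0 1) := h0 hq
    have h : φ = 0 := (adj.homEquiv F _).injective (by
      rw [zero_of_comp_mono (L.d 0 1) hφ', adj.homEquiv_unit, CategoryTheory.Functor.map_zero, comp_zero])
    subst h
    exact I.extMk_zero (m := 1) rfl
  · obtain ⟨ψ, hψ⟩ := eq_zero_or_boundary L hI c h0 hex p hq _ hφ'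
    refine (I.extMk_eq_zero_iff φ (p + 2) rfl hφ p rfl).2 ⟨(adj.homEquiv F _).symm ψ, ?_⟩
    apply (adj.homEquiv F _).injective
    rw [adj.homEquiv_naturality_right, Equiv.apply_symm_apply]
    exact hψ

end Groth.Agent.ExtBelow2
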