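import Mathlib.CategoryTheory.Preadditive.Injective.Basic
import Mathlib.Algebra.Homology.ShortComplex.Abelian
import Mathlib.CategoryTheory.Abelian.Exact
import Mathlib.Algebra.Homology.HomologicalComplex

/-!
# A complex of injectives exact in low degrees has no cohomology of homomorphisms into it there
-/

set_option autoImplicit false

universe v u

open CategoryTheory CategoryTheory.Limits

namespace Groth.Agent.ExtBelow2

variable {C : Type u} [Category.{v} C] [Abelian C] (L : CochainComplex C ℕ)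

/-- A partial contraction of a complex of injectives which is exact below degree `c`. -/
theorem exists_contraction (hI : ∀ n, Injective (L.X n)) (c : ℕ) (h0 : 0 < c → Mono (L.d 0 1))
    (hex : ∀ n, n + 1 < c →
      (ShortComplex.mk (L.d n (n + 1)) (L.d (n + 1) (n + 2)) (L.d_comp_d _ _ _)).Exact) :
    ∀ n, n < c → ∃ (s : L.X (n + 1) ⟶ L.X n) (t : L.X n ⟶ L.X n),
      t + L.d n (n + 1) ≫ s = 𝟙 (L.X n) ∧ (n = 0 → t = 0) ∧
      ∀ m, m + 1 = n → ∃ s' : L.X n ⟶ L.X m, t = s' ≫ L.d m n := by
  intro n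
  induction n with
  | zero =>
    intro hc
    haveI := h0 hc
    haveI := hI 0
    exact ⟨Injective.factorThru (𝟙 _) (L.d 0 1), 0, by rw [zero_add]; exact Injective.comp_factorThru _ _,
      fun _ => rfl, fun m hm => absurd hm (Nat.succ_ne_zero m)⟩
  | succ n ih =>
    intro hc
    obtain ⟨s, t, hst, ht0, ht⟩ := ih (by omega)
    haveI := hI (n + 1)
    have hdt : t ≫ L.d n (n + 1) = 0 := by
      rcases n with _ | m
      · rw [ht0 rfl, zero_comp]
      · obtain ⟨s', rfl⟩ := ht m rfl
        rw [Category.assoc, L.d_comp_d, comp_zero]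
    let f := 𝟙 (L.X (n + 1)) - s ≫ L.d n (n + 1)
    have hf : L.d n (n + 1) ≫ f = 0 := by
      have h1 := congrArg (· ≫ L.d n (n + 1)) hst
      simp only [Preadditive.add_comp, hdt, zero_add, Category.id_comp, Category.assoc] at h1
      rw [Preadditive.comp_sub, Category.comp_id, h1, sub_self]
    refine ⟨(hex n hc).descToInjective f hf, s ≫ L.d n (n + 1), ?_, fun h => absurd h (Nat.succ_ne_zero n),
      fun m hm => ?_⟩
    · rw [(hex n hc).comp_descToInjective f hf]
      exact add_sub_cancel _ _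
    · obtain rfl : m = n := by omega
      exact ⟨s, rfl⟩

/-- Cocycles below degree `c` vanish in degree zero and are coboundaries otherwise. -/
theorem eq_zero_or_boundary (hI : ∀ n, Injective (L.X n)) (c : ℕ) (h0 : 0 < c → Mono (L.d 0 1))
    (hex : ∀ n, n + 1 < c →
      (ShortComplex.mk (L.d n (n + 1)) (L.d (n + 1) (n + 2)) (L.d_comp_d _ _ _)).Exact)
    {A : C} (p : ℕ) (hp : p + 1 < c) (φ : A ⟶ L.X (p + 1)) (hφ : φ ≫ L.d (p + 1) (p + 2) = 0) :
    ∃ ψ : A ⟶ L.X p, ψ ≫ L.d p (p + 1) = φ := by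
  obtain ⟨s, t, hst, -, ht⟩ := exists_contraction L hI c h0 hex (p + 1) hp
  obtain ⟨s', rfl⟩ := ht p rfl
  refine ⟨φ ≫ s', ?_⟩
  have h1 := congrArg (φ ≫ ·) hst
  simp only [Preadditive.comp_add, ← Category.assoc φ (L.d (p + 1) (p + 1 + 1)), Category.comp_id] at h1
  rw [show φ ≫ L.d (p + 1) (p + 1 + 1) = 0 from hφ, zero_comp, add_zero] at h1
  rw [Category.assoc]
  exact h1

end Groth.Agent.ExtBelow2
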